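import Mathlib
import Cfsg.Agent.Lib.Comput.Check3
import Cfsg.Agent.Lib.LieModel.G23.P.Data

/-! generated by tools/cgt -/

set_option autoImplicit false
set_option maxRecDepth 100000
set_option Elab.async false

namespace CfsgLib.LieModel.G23.P

open CfsgLib.Comput

def R6_0 : RepC := ⟨39, 1, [],
  []⟩
def R6_1 : RepC := ⟨40, 1, [],
  []⟩
def S6_0 : GenC := ⟨40, [],
  [(0, 0, 0, 2, 0), (0, 1, 0, 0, 0), (0, 2, 0, 1, 0)], 0⟩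
def L6 : Level := ⟨0x0, 0xc000000000, [], 1, 40, 0, 3, [R6_0, R6_1], [S6_0]⟩
def X6 : Ext := [(38, 40, 0)]

def R5_0 : RepC := ⟨33, 1, [(40, 40)],
  [(49, 2, [1])]⟩
def R5_1 : RepC := ⟨34, 1, [(40, 40)],
  [(40, 2, [1])]⟩
def R5_2 : RepC := ⟨35, 1, [(40, 40)],
  [(58, 2, [1])]⟩
def R5_3 : RepC := ⟨36, 1, [(39, 39)],
  [(40, 2, [1])]⟩
def R5_4 : RepC := ⟨0x2321, 1, [(39, 39)],
  [(49, 2, [1])]⟩
def R5_5 : RepC := ⟨0x2124, 1, [(39, 39)],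
  [(58, 2, [1])]⟩
def R5_6 : RepC := ⟨0x2322, 1, [(39, 39)],
  [(49, 2, [1])]⟩
def R5_7 : RepC := ⟨0x2422, 1, [(39, 39)],
  [(49, 2, [1])]⟩
def S5_0 : GenC := ⟨34, [(39, 39)],
  [(0, 0, 0, 2, 0), (0, 1, 0, 0, 0), (0, 2, 0, 1, 0), (0, 3, 0, 7, 0), (0, 4, 0, 8, 0), (0, 5, 0, 3, 0), (0, 6, 0, 4, 0), (0, 7, 0, 5, 0), (0, 8, 0, 6, 0)], 0⟩
def S5_1 : GenC := ⟨36, [(39, 39)],
  [(0, 0, 0, 4, 0), (0, 1, 0, 6, 0), (0, 2, 0, 8, 0), (0, 3, 0, 0, 0), (0, 4, 0, 3, 0), (0, 5, 0, 1, 0), (0, 6, 0, 5, 0), (0, 7, 0, 2, 0), (0, 8, 0, 7, 0)], 0⟩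
def L5 : Level := ⟨0xc000000000, 0xff00000000, [40], 3, 13, 0, 9, [R5_0, R5_1, R5_2, R5_3, R5_4, R5_5, R5_6, R5_7], [S5_0, S5_1]⟩
def X5 : Ext := [(32, 34, 0), (34, 36, 0), (36, 0, 40), (37, 37, 0)]

def R4_0 : RepC := ⟨32, 1, [(0x2322, 0x212428), (33, 0x2227), (39, 39)],
  [(177, 2, [1, 2, 3])]⟩
def S4_0 : GenC := ⟨32, [(34, 0x2128)],
  [(0, 0, 0, 1, 0), (0, 1, 0, 0, 39)], 0⟩
def L4 : Level := ⟨0xff00000000, 0xfffc000000, [34, 36, 40], 27, 5, 0, 2, [R4_0], [S4_0]⟩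
def X4 : Ext := [(30, 32, 0), (26, 0, 0x2128), (27, 27, 0), (28, 0, 0x232128), (29, 29, 0)]

def R3_0 : RepC := ⟨20, 2, [(34, 33), (0x2427, 0x2327), (36, 35)],
  [(157, 2, [1, 2, 3])]⟩
def R3_1 : RepC := ⟨22, 2, [(39, 39), (33, 33), (0x2322, 0x2322)],
  [(140, 2, [1, 2, 3])]⟩
def R3_2 : RepC := ⟨23, 2, [(40, 40), (0x2327, 0x2327), (0x2128, 33)],
  [(186, 2, [1, 2, 3])]⟩
def R3_3 : RepC := ⟨16, 2, [(0x2321, 0x232128), (36, 36), (40, 40)],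
  [(150, 2, [1, 2, 3])]⟩
def S3_0 : GenC := ⟨20, [(40, 40)],
  [(0, 0, 0, 1, 0), (0, 1, 0, 0, 39), (32, 2, 32, 3, 0x2022), (0, 2, 0, 4, 0x202227), (0, 3, 32, 4, 39), (32, 3, 32, 2, 0x202227), (0, 4, 0, 2, 0x2022), (32, 4, 0, 3, 0), (32, 1, 32, 1, 32)], 0⟩
def S3_1 : GenC := ⟨22, [(0x2227, 0x2227)],
  [(0, 0, 0, 2, 0), (0, 1, 32, 3, 0x2127), (32, 2, 0, 0, 0x2028), (0, 2, 32, 2, 32), (0, 3, 32, 1, 34), (32, 3, 0, 4, 0x202128), (0, 4, 0, 1, 0x2022), (32, 4, 0, 3, 0x202128), (32, 1, 32, 4, 0x202228)], 0⟩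
def L3 : Level := ⟨0xfffc000000, 0xfffffcc000, [32, 34, 36, 40], 54, 4, 0, 9, [R3_0, R3_1, R3_2, R3_3], [S3_0, S3_1]⟩
def X3 : Ext := [(18, 20, 0), (20, 22, 0), (22, 0, 0x15201422), (23, 23, 0), (24, 0, 0x182322), (25, 25, 0), (15, 0, 0x15142022), (14, 16, 0)]

def R2_0 : RepC := ⟨14, 1, [(0x242228, 0x2422), (0x162023, 0x142227), (0x1623, 0x1624), (0x2023, 0x10202127), (0x1021, 0x2014232128)],
  [(45, 3, [1, 2, 3, 4, 5]), (17, 2, [1, 2])]⟩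
def S2_0 : GenC := ⟨14, [(0xf20, 0x20142022)],
  [(0, 0, 0, 1, 0), (0, 1, 0, 0, 21)], 0⟩
def L2 : Level := ⟨0xfffffcc000, 0xfffffff000, [20, 22, 32, 34, 36, 40], 486, 2, 0, 2, [R2_0], [S2_0]⟩
def X2 : Ext := [(12, 14, 0), (16, 0, 0xe2021), (17, 17, 0)]

def R1_0 : RepC := ⟨0x90c, 2, [(0x232127, 0x2422), (0x162024, 0x18202428), (0x1024, 0x2014), (0x2024, 0x10202128), (0x201421, 0x182228)],
  [(59, 3, [1, 2, 3, 4, 5]), (20, 2, [1, 2])]⟩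
def R1_1 : RepC := ⟨9, 9, [(0xe1522, 0x1020232227), (0xf20, 0xe14202327)],
  [(232, 6, [1, 2])]⟩
def S1_0 : GenC := ⟨10, [(33, 0x2228), (0xe152327, 0x102024), (0xf2023, 0xe142027)],
  [(0, 0, 32, 2, 0xe172228), (0, 2, 0, 0, 0), (32, 2, 20, 2, 0xe2124), (21, 2, 14, 1, 0xe0f20232227), (0, 1, 18, 2, 0xe2014242227), (20, 2, 22, 2, 0xe1820242228)], 1⟩
def L1 : Level := ⟨0xfffffff000, 0xffffffff00, [14, 20, 22, 32, 34, 36, 40], 972, 1, 0, 12, [R1_0, R1_1], [S1_0]⟩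
def X1 : Ext := [(8, 10, 0), (10, 0, 0x15090e10212428), (11, 11, 0)]

def R0_0 : RepC := ⟨0x706, 12, [(0x201424, 0x14202328), (0x2014202128, 0x202327), (0xe2014, 0x90c0e15232127), (0x1021, 0x212428)],
  [(346, 4, [1, 2, 3, 4]), (12, 2, [1, 2])]⟩
def R0_1 : RepC := ⟨0x50b05, 108, [(0x162021, 0xb0a0e1022), (0x90c0e17242227, 0x16202128)],
  [(286, 6, [1, 2])]⟩
def R0_2 : RepC := ⟨0x50b050b05, 243, [(0x170a18242228, 0xb20142023), (0xf27, 0x20142428)],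
  [(82, 5, [1, 2])]⟩
def S0_0 : GenC := ⟨6, [(0x1727, 0x2014212427), (0x1520, 0x18202124), (0x15212427, 0x2328), (0x90c0e1628, 0xb0a0e0f202322)],
  [(0, 0, 0x90c, 1, 0x1720242227), (0xb0a, 1, 0, 0, 0xb0a172028), (0, 1, 0, 1, 0xb0a1720242227), (9, 1, 0x1124, 2, 0xb0a1720232127), (0, 2, 9, 1, 0xe1420212428), (14, 2, 34, 2, 0x16202321), (11, 2, 0x121b28, 3, 0x10202124), (0, 3, 11, 2, 0), (17, 3, 0x2427, 3, 0x15202227)], 3⟩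
def L0 : Level := ⟨0xffffffff00, 0xffffffffff, [10, 14, 20, 22, 32, 34, 36, 40], 11664, 0, 0, 364, [R0_0, R0_1, R0_2], [S0_0]⟩
def X0 : Ext := [(4, 6, 0), (0, 0, 11), (1, 1, 0), (2, 0, 0x182328), (3, 3, 0), (6, 0, 0xb0a1720242227), (7, 7, 0)]

def top : List ℕ := [1, 3, 5, 7]
def gs : List ℕ := [6, 10, 14, 20, 22, 32, 34, 36, 40]
def XD : Ext := [(1, 1, 0), (3, 3, 0), (5, 5, 0), (7, 7, 0), (8, 0, 0x6020501040601070602050105), (9, 9, 0), (10, 0, 0x502060106070701070601050205), (11, 11, 0), (12, 0, 0xa0a0a0c), (13, 13, 0), (14, 0, 0xc0a0c090b), (15, 15, 0), (16, 0, 0xa0b0b0a), (17, 17, 0), (18, 0, 0xe12), (19, 19, 0), (20, 0, 0xe0e), (21, 21, 0), (22, 0, 0xe11110d), (23, 23, 0), (24, 0, 0xd10100d), (25, 25, 0), (26, 0, 0x171510), (27, 27, 0), (28, 0, 0x16101910), (29, 29, 0), (30, 0, 0x180f1410), (31, 31, 0), (32, 0, 0x201c1f),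 (33, 33, 0), (34, 0, 0x201d1b1d1f), (35, 35, 0), (36, 0, 0x1f1f), (37, 37, 0), (38, 0, 0x21252522), (39, 39, 0)]
def MX : Level.MaxC := [[(0x90c, [0x1720242227])], [(0x90c, [13, 0x90c0e1728])], [(0x90c0917, [36, 0xd0a0e2014232227])]]
def NC : NclD := ⟨0x1910020706081f1d, 13, [(0, [9, 0x170a0e0f202328]), (2, [0x26100509, 0x190a060906100a0e16232128]), (4, [0x261d0b, 0xc060c060a060b1820212428]), (6, [0x22281e28, 0x90e182024])]⟩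

/-- all the equations of the certificate -/
structure Eqs {G : Type*} [Group G] (g : ℕ → G) : Prop where
  l6 : AllHold g L6.eqns
  x6 : AllHold g X6.eqns
  l5 : AllHold g L5.eqns
  x5 : AllHold g X5.eqns
  l4 : AllHold g L4.eqns
  x4 : AllHold g X4.eqns
  l3 : AllHold g L3.eqns
  x3 : AllHold g X3.eqns
  l2 : AllHold g L2.eqns
  x2 : AllHold g X2.eqns
  l1 : AllHold g L1.eqns
  x1 : AllHold g X1.eqns
  l0 : AllHold g L0.eqns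
  x0 : AllHold g X0.eqns
  xd : AllHold g XD.eqns
  mx : AllHold g (L0.maxEqns MX)
  nc : AllHold g NC.eqns

end CfsgLib.LieModel.G23.P
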